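import Cfsg.Agent.H167.HasStLie
import Cfsg.Agent.H33.IM

/-!
# `p ^ k ∣ |S|` gives an irreducible degree divisible by `p ^ k`, `p` the characteristic (helper674, S4844)
-/

set_option autoImplicit false

open Cfsg

namespace Cfsg.Agent.H674.Sq

open Cfsg.Agent.H33

universe u

/-- the characteristic: the Steinberg character -/
theorem im_char_pow {p : ℕ} [hp : Fact p.Prime] {S : Type u} [Group S] [Finite S] [IsSimpleGroup S]
    (h : IsLieTypeChar p S) {k : ℕ} (hd : p ^ k ∣ Nat.card S) : IM (p ^ k) S := by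
  obtain ⟨χ, hχ, h1, -⟩ := Cfsg.Agent.H167.StChar.hasSt_of_lie hp.1 h
  exact IM.of_apply_one hχ h1 (pow_dvd_pow p ((hp.1.pow_dvd_iff_le_factorization Nat.card_pos.ne').1 hd))

end Cfsg.Agent.H674.Sq
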