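import Cfsg.Agent.H674.Sq.Char
import Cfsg.Agent.H674.Dl.OrthMinus
import Cfsg.Agent.H664.R1.PSLTwo
import Cfsg.Agent.S0300

/-!
# Irreducible degrees of the orthogonal groups divisible by `p²` (helper674, S4844)

`sq_oodd`, `sq_ominus` : `p ≠ 2`, `p² ∣ |S|` gives an irreducible character of degree divisible by `p²`.
-/

set_option autoImplicit false

open Cfsg

namespace Cfsg.Agent.H674.Sq

open Module Cfsg.Agent.H53.HC Cfsg.Agent.H477.HC Cfsg.Agent.H749.Two Cfsg.Agent.H33 Cfsg.Agent.H674.Dl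

universe u v w

section num

variable {r q : ℕ}

theorem sq_of_mul {a b : ℕ} (hr : r.Prime) (h : r ^ 2 ∣ a * b) (hb : ¬ r ∣ b) : r ^ 2 ∣ a :=
  (Nat.Coprime.pow_left 2 ((Nat.Prime.coprime_iff_not_dvd hr).2 hb)).dvd_of_dvd_mul_right h

theorem sq_of_mul' {a b : ℕ} (hr : r.Prime) (h : r ^ 2 ∣ a * b) (ha : ¬ r ∣ a) : r ^ 2 ∣ b :=
  sq_of_mul hr (by rwa [mul_comm] at h) ha

theorem sub_one_dvd (q n : ℕ) : q - 1 ∣ q ^ n - 1 := by simpa using pow_sub_one_dvd q (one_dvd n)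

/-- `(q² - 1)²` divides the product of two terms -/
theorem sq_dvd_AP {s : Finset ℕ} (hs : ({0, 1} : Finset ℕ) ⊆ s) (h : r ∣ q ^ 2 - 1) : r ^ 2 ∣ AP q s := by
  have h1 : ∏ i ∈ ({0, 1} : Finset ℕ), (q ^ (2 * (i + 1)) - 1) ∣ AP q s :=
    Finset.prod_dvd_prod_of_subset _ _ _ hs
  refine Dvd.dvd.trans ?_ h1
  rw [Finset.prod_insert (by simp), Finset.prod_singleton, sq]
  exact Nat.mul_dvd_mul (h.trans (sq_sub_dvd q 1)) (h.trans (sq_sub_dvd q 2))

/-- `r ∣ q ^ k - 1`, `r ∣ q ^ (k - 1) - 1` give `r ∣ q - 1` -/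
theorem not_dvd_pred {k : ℕ} (hk : 1 ≤ k) (h : r ∣ q ^ k - 1) (h1 : ¬ r ∣ q - 1) :
    ¬ r ∣ q ^ (k - 1) - 1 := by
  intro h2
  apply h1
  have h3 := Nat.dvd_gcd h h2
  have h4 := Nat.pow_sub_one_gcd_pow_sub_one q k (k - 1)
  rw [h4] at h3
  have h5 : Nat.gcd k (k - 1) = 1 := by
    have : Nat.Coprime (k - 1 + 1) (k - 1) := by simp
    rwa [Nat.sub_add_cancel hk] at this
  rwa [h5, pow_one] at h3

end num

section general

variable {S : Type*} [Group S] {p q r : ℕ}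

/-- divisibility by `r ^ c` passes to the constituent, `r` odd -/
theorem dn_pow {d e : ℕ} (h : Dn S p q d e) (hr : r.Prime) (hr2 : r ≠ 2) {c : ℕ} (hd : r ^ c ∣ d) : r ^ c ∣ e := by
  obtain ⟨-, ⟨t, rfl⟩, -, h4⟩ := h
  rcases Nat.eq_zero_or_pos e with rfl | he
  · exact dvd_zero _
  rw [Nat.mul_div_cancel_left _ he] at h4
  have h5 : ¬ r ∣ t := fun h => hr2 ((Nat.prime_dvd_prime_iff_eq hr Nat.prime_two).1 (hr.dvd_of_dvd_pow
      ((h.trans h4).trans (by norm_num : 4 ∣ 2 ^ 2))))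
  exact (Nat.Coprime.pow_left c ((Nat.Prime.coprime_iff_not_dvd hr).2 h5)).dvd_of_dvd_mul_right hd

theorem im_of_dn {d : ℕ} (h : ∃ e, Dn S p q d e) (hr : r.Prime) (hr2 : r ≠ 2) {c : ℕ} (hd : r ^ c ∣ d) :
    IM (r ^ c) S := by
  obtain ⟨e, he⟩ := h
  obtain ⟨χ, hχ, h1⟩ := he.1
  exact IM.of_apply_one hχ h1 (dn_pow he hr hr2 hd)

theorem im_of_pp {d : ℕ} (h : ∃ e, Dn S p q d e) (hr : r.Prime) (hr2 : r ≠ 2) {c : ℕ} (hd : r ^ c ∣ pp p d) :
    IM (r ^ c) S := im_of_dn h hr hr2 (hd.trans (pp_dvd d))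

/-- removing `2` and the powers of `p` -/
theorem pow_dvd_pp {p : ℕ} (hp : p.Prime) (hr : r.Prime) (hrp : r ≠ p) {n c : ℕ} (h : r ^ c ∣ n) : r ^ c ∣ pp p n := by
  rcases Nat.eq_zero_or_pos n with rfl | hn
  · simp [pp]
  have h1 : p ^ n.factorization p * pp p n = n := Nat.ordProj_mul_ordCompl_eq_self n p
  rw [← h1] at h
  have h2 : Nat.Coprime (r ^ c) (p ^ n.factorization p) :=
    Nat.Coprime.pow _ _ ((Nat.coprime_primes hr hp).2 hrp)
  exact h2.dvd_of_dvd_mul_left h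

theorem not_dvd_pp_two (hr : r.Prime) (hr2 : r ≠ 2) : ¬ r ∣ pp p 2 := fun h =>
  hr2 ((Nat.prime_dvd_prime_iff_eq hr Nat.prime_two).1 (h.trans (pp_dvd 2)))

end general

section iso

variable {ι : Type} [Fintype ι] [DecidableEq ι] {K : Type u} [Field K] [Finite K] (F : CForm K (ι → K))
  (p : ℕ) [Fact p.Prime] [CharP K p]

omit [Finite K] in
theorem dvd_iso (hB : ∀ u v, F.B u v = F.Q (u + v) - F.Q u - F.Q v) {c : ℕ}
    (hd : c ∣ Nat.card (POmega K F.Q)) : c ∣ Nat.card F.iso := by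
  have hd1 : c ∣ Nat.card (isometryGroup K F.Q) :=
    hd.trans ((Subgroup.card_quotient_dvd_card _).trans (Subgroup.card_subgroup_dvd_card _))
  rwa [← Nat.card_congr (isoQuad F hB).toEquiv]

end iso

/-! ### odd dimension -/

section odd

theorem sq_odd (K : Type u) [Field K] [Finite K] (p : ℕ) [Fact p.Prime] [CharP K p] (ho : Odd (Nat.card K)) {m : ℕ}
    (hm : 3 ≤ m) {r : ℕ} (hr : r.Prime) (hrp : r ≠ p) (hr2 : r ≠ 2)
    (hd : r ^ 2 ∣ Nat.card (POmega K (quadFormOdd m K))) : IM (r ^ 2) (POmega K (quadFormOdd m K)) := by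
  have hp : p.Prime := Fact.out
  have h2 := two_ne_zero_of_odd (K := K) (p := p) ho
  have hq : 2 ≤ Nat.card K := Finite.one_lt_card
  have hN : r ^ 2 ∣ AP (Nat.card K) (Finset.range m) := by
    have h1 := pow_dvd_pp hp hr hrp (dvd_iso (CForm.oddF K m h2) (odd_hB K m h2) hd)
    rw [pp_card_odd K p h2 ho] at h1
    exact sq_of_mul' hr h1 (not_dvd_pp_two hr hr2)
  have htop := D_odd K p h2 ho (show 0 < m by omega) (Nat.add_zero m)
  rw [← Finset.range_eq_Ico] at htop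
  by_cases h3 : r ∣ Nat.card K ^ m - 1
  · by_cases h4 : r ∣ Nat.card K ^ 2 - 1
    · refine im_of_pp (odd_dn K p h2 ho hm (by omega) le_rfl) hr hr2 ?_
      have h5 : pp p (dg (CForm.oddF K m h2) m) = AP (Nat.card K) (Finset.range (m - 1)) * (Nat.card K ^ m + 1) := by
        have h6 : 0 < Nat.card K ^ m - 1 := by
          have := Nat.one_lt_pow (show m ≠ 0 by omega) hq
          omega
        apply Nat.eq_of_mul_eq_mul_right h6
        rw [htop]
        obtain ⟨n, rfl⟩ : ∃ n, m = n + 1 := ⟨m - 1, by omega⟩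
        unfold AP
        rw [Finset.prod_range_succ, Nat.add_sub_cancel, sq_sub _ (n + 1)]
        ring
      rw [h5]
      refine Dvd.dvd.mul_right (sq_dvd_AP ?_ h4) _
      intro i hi
      simp only [Finset.mem_insert, Finset.mem_singleton] at hi
      rw [Finset.mem_range]; omega
    · have h5 : ¬ r ∣ Nat.card K - 1 := fun h => h4 (h.trans (sub_one_dvd _ 2))
      have h6 := not_dvd_pred (show 1 ≤ m by omega) h3 h5
      have h7 := D_odd K p h2 ho (show 0 < m - 1 by omega) (show m - 1 + 1 = m by omega)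
      refine im_of_pp (odd_dn K p h2 ho hm (show 2 ≤ m - 1 by omega) (Nat.sub_le _ _)) hr hr2 ?_
      refine sq_of_mul hr ?_ h6
      rw [h7]
      have h8 := AP_succ (q := Nat.card K) (show 0 < m by omega)
      rw [← Finset.range_eq_Ico, zero_add, mul_one] at h8
      rw [h8] at hN
      exact sq_of_mul' hr hN h4
  · refine im_of_pp (odd_dn K p h2 ho hm (by omega) le_rfl) hr hr2 ?_
    refine sq_of_mul hr ?_ h3
    rwa [htop]

/-- **`PΩ_(2m+1)(q)`** -/
theorem sq_oodd {S : Type u} [Group S] [Finite S] (h : IsPOmegaOdd S) (hs : IsSimpleGroup S) {p : ℕ}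
    [hp : Fact p.Prime] (hp2 : p ≠ 2) (hd : p ^ 2 ∣ Nat.card S) : Cfsg.Agent.H33.IM (p ^ 2) S := by
  obtain ⟨F, _, _, m, hm, ho, ⟨e⟩⟩ := h
  obtain ⟨s, hs'⟩ := CharP.exists F
  have hpr : s.Prime := (CharP.char_is_prime_or_zero F s).resolve_right (CharP.char_ne_zero_of_finite F s)
  have : Fact s.Prime := ⟨hpr⟩
  by_cases hrp : p = s
  · subst hrp
    have hL : IsLieTypeChar p S := by
      refine Or.inr (Or.inr (Or.inr (Or.inl ⟨F, inferInstance, inferInstance, inferInstance, m, hm, ho, ⟨e⟩⟩)))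
    exact im_char_pow hL hd
  rw [IM.congr e]
  rw [Nat.card_congr e.toEquiv] at hd
  exact sq_odd F s (by rwa [Nat.card_eq_fintype_card]) hm hp.1 hrp hp2 hd

end odd

/-! ### minus type -/

section lift

open Cfsg.Agent.Characters

/-- a character of `Ω / Z(Ω)` of degree divisible by `r` gives one of `A / Z(A)`, `Ω` normal in `A` -/
theorem im_lift {A : Type u} [Group A] [Finite A] (N : Subgroup A) [N.Normal] {r : ℕ}
    (h : IM r (N ⧸ Subgroup.center N)) :
    ∃ χ : A → ℂ, IsIrrCharacter A χ ∧ (∃ d : ℕ, χ 1 = d ∧ r ∣ d) ∧ ∀ z ∈ Subgroup.center A, χ z = χ 1 := by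
  let f : A →* A ⧸ Subgroup.center A := QuotientGroup.mk' (Subgroup.center A)
  have hf : Function.Surjective f := QuotientGroup.mk'_surjective _
  have hN : (N.map f).Normal := Subgroup.Normal.map inferInstance f hf
  let g : N →* N.map f := f.subgroupMap N
  have hg : Function.Surjective g := f.subgroupMap_surjective N
  have hker : g.ker ≤ (QuotientGroup.mk' (Subgroup.center N)).ker := by
    intro x hx
    rw [QuotientGroup.ker_mk']
    rw [MonoidHom.mem_ker] at hx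
    have h1 : f (x : A) = 1 := congrArg Subtype.val hx
    have h2 : (x : A) ∈ Subgroup.center A := (QuotientGroup.eq_one_iff _).1 h1
    rw [Subgroup.mem_center_iff] at h2 ⊢
    exact fun y => Subtype.ext (h2 y)
  have h1 : IM r (N.map f) := by
    have h2 : IM r (N ⧸ g.ker) := IM.of_surjective (QuotientGroup.lift g.ker (QuotientGroup.mk' (Subgroup.center N)) hker)
      (QuotientGroup.lift_surjective_of_surjective _ _ (QuotientGroup.mk'_surjective _) hker) h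
    exact h2.of_equiv (QuotientGroup.quotientKerEquivOfSurjective g hg).symm
  obtain ⟨χ, hχ⟩ := IM.of_normal (N.map f) h1
  refine ⟨(χ : A ⧸ Subgroup.center A → ℂ) ∘ f, Core.isIrr_comp f hf χ.2,
    ⟨charDegree (χ : A ⧸ Subgroup.center A → ℂ), ?_, hχ⟩, fun z hz => ?_⟩
  · rw [Function.comp_apply, map_one]
    exact (Cfsg.Agent.Blocks.Basic.irr_one_eq_charDegree χ.2)
  · have h3 : f z = 1 := (QuotientGroup.eq_one_iff _).2 hz
    rw [Function.comp_apply, Function.comp_apply, map_one, h3]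

variable {K : Type} [Field K] [Finite K] {a b : K}
  (hab : ∀ z₁ z₂ : K, z₁ ^ 2 + a * z₁ * z₂ + b * z₂ ^ 2 = 0 → z₁ = 0 ∧ z₂ = 0)

include hab in
/-- `PΩ⁻_4(q) = PSL_2(q²)` -/
theorem im_four {r : ℕ} (hr : r.Prime) (hr2 : r ≠ 2) (h : r ∣ Nat.card K ^ 2 + 1) :
    IM r (POmega K (quadFormMinus 1 K a b)) := by
  have hq : 2 ≤ Nat.card K := Finite.one_lt_card
  let _ := Fintype.ofFinite K
  obtain ⟨p, hp⟩ := CharP.exists K
  have hpr : p.Prime := (CharP.char_is_prime_or_zero K p).resolve_right (CharP.char_ne_zero_of_finite K p)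
  have : Fact p.Prime := ⟨hpr⟩
  obtain ⟨s, hs⟩ := card_pow K p
  have hs0 : s ≠ 0 := by
    rintro rfl
    rw [pow_zero] at hs
    omega
  let L := GaloisField p (s * 2)
  have : Fintype L := Fintype.ofFinite L
  have hL : Fintype.card L = Nat.card K ^ 2 := by
    rw [← Nat.card_eq_fintype_card, GaloisField.card p (s * 2) (by omega), pow_mul, ← hs]
  obtain ⟨e⟩ := S0300.result (F := K) (K := L) (q := Nat.card K) Nat.card_eq_fintype_card.symm hL a b hab
  have h4 : 4 ≤ Fintype.card L := by rw [hL]; nlinarith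
  refine IM.of_equiv e (H664.R1.PSLTwo.im_psl h4 hr ?_)
  rw [← hL] at h
  have h5 : r ∣ Fintype.card L * (Fintype.card L ^ 2 - 1) := by
    refine Dvd.dvd.mul_left (h.trans ?_) _
    have := Nat.sq_sub_sq (Fintype.card L) 1
    rw [one_pow] at this
    rw [this]
    exact Dvd.intro _ rfl
  rcases Nat.even_or_odd (Fintype.card L) with h6 | h6
  · rwa [SmallSimple.PSLTwoPart.card_psl_two_even h6]
  · rw [← SmallSimple.PSLTwoPart.card_psl_two_odd h6] at h5
    exact (hr.dvd_mul.1 h5).resolve_left fun h7 => hr2 ((Nat.prime_dvd_prime_iff_eq hr Nat.prime_two).1 h7)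

theorem exists_psi_r {r : ℕ} (hr : r.Prime) (hr2 : r ≠ 2) (h : r ∣ Nat.card K ^ 2 + 1) :
    ∃ ψ : (CForm.minusF K 1 a b hab).iso → ℂ, IsIrrCharacter _ ψ ∧ (∃ d : ℕ, ψ 1 = d ∧ r ∣ d) ∧
      ∀ (z : (CForm.minusF K 1 a b hab).iso) (c : Kˣ),
        (∀ v, (z : ((Fin 1 ⊕ Fin 1) ⊕ Fin 2 → K) ≃ₗ[K] ((Fin 1 ⊕ Fin 1) ⊕ Fin 2 → K)) v = (c : K) • v) →
          ψ z = ψ 1 := by
  have h1 : IM r (Omega K (quadFormMinus 1 K a b) ⧸ Subgroup.center (Omega K (quadFormMinus 1 K a b))) :=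
    im_four hab hr hr2 h
  have : Finite (isometryGroup K (quadFormMinus 1 K a b)) := inferInstance
  obtain ⟨χ, hχ, ⟨d, hd, hrd⟩, hz⟩ := im_lift (Omega K (quadFormMinus 1 K a b)) h1
  let e : isometryGroup K (quadFormMinus 1 K a b) ≃* (CForm.minusF K 1 a b hab).iso :=
    isoQuad (CForm.minusF K 1 a b hab) (minus_hB K 1 a b hab)
  refine ⟨χ ∘ e.symm, Core.isIrr_comp e.symm.toMonoidHom e.symm.surjective hχ, ⟨d, ?_, hrd⟩, fun z c hc => ?_⟩
  · rw [Function.comp_apply, map_one, hd]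
  · rw [Function.comp_apply, Function.comp_apply, map_one]
    apply hz
    rw [Subgroup.mem_center_iff]
    intro g
    obtain ⟨g', rfl⟩ := e.symm.surjective g
    rw [← map_mul, ← map_mul]
    congr 1
    apply Subtype.ext
    apply LinearEquiv.ext
    intro v
    have e1 : ((g' * z : (CForm.minusF K 1 a b hab).iso) : ((Fin 1 ⊕ Fin 1) ⊕ Fin 2 → K) ≃ₗ[K] ((Fin 1 ⊕ Fin 1) ⊕ Fin 2 → K)) v =
      (g' : ((Fin 1 ⊕ Fin 1) ⊕ Fin 2 → K) ≃ₗ[K] ((Fin 1 ⊕ Fin 1) ⊕ Fin 2 → K)) ((z : ((Fin 1 ⊕ Fin 1) ⊕ Fin 2 → K) ≃ₗ[K] ((Fin 1 ⊕ Fin 1) ⊕ Fin 2 → K)) v) := rfl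
    have e2 : ((z * g' : (CForm.minusF K 1 a b hab).iso) : ((Fin 1 ⊕ Fin 1) ⊕ Fin 2 → K) ≃ₗ[K] ((Fin 1 ⊕ Fin 1) ⊕ Fin 2 → K)) v =
      (z : ((Fin 1 ⊕ Fin 1) ⊕ Fin 2 → K) ≃ₗ[K] ((Fin 1 ⊕ Fin 1) ⊕ Fin 2 → K)) ((g' : ((Fin 1 ⊕ Fin 1) ⊕ Fin 2 → K) ≃ₗ[K] ((Fin 1 ⊕ Fin 1) ⊕ Fin 2 → K)) v) := rfl
    rw [e1, e2, hc, hc, map_smul]

/-- Levi `GL_k × O⁻_4`, `k = l - 1 ≥ 3` -/
theorem levi_dn (p : ℕ) [Fact p.Prime] [CharP K p] {l r : ℕ} (hl : 4 ≤ l) (hr : r.Prime) (hr2 : r ≠ 2)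
    (h : r ∣ Nat.card K ^ 2 + 1) :
    ∃ d x, Dn (POmega K (quadFormMinus l K a b)) p (Nat.card K) (dg (CForm.minusF K l a b hab) (l - 1) * d) x ∧
      r ∣ d := by
  classical
  have hq : 2 ≤ Nat.card K := Finite.one_lt_card
  obtain ⟨e, f, j, hfr⟩ := CForm.frm_minus (K := K) hab (show l - 1 + 1 = l by omega)
  obtain ⟨e0, f0, j0, h0⟩ := CForm.frm_minus (K := K) hab (Nat.add_zero l)
  obtain ⟨ψ, hψ, ⟨d, hψ1, hrd⟩, hψz⟩ := exists_psi_r hab hr hr2 h
  obtain ⟨hi, hi'⟩ := idx_minus K (p := p) hab (show 3 ≤ l by omega)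
  have hW : ∀ W' ∈ (CForm.minusF K l a b hab).Om (l - 1),
      Submodule.span K (Set.range e) ≤ (CForm.minusF K l a b hab).perp W' →
      Submodule.span K (Set.range e) ⊓ W' = ⊥ → False := by
    intro W' hW' h1 h2
    have hts := (CForm.minusF K l a b hab).TS_sup (frm_mem hfr).1 hW'.1 h1
    refine no_Om h0 rfl (anis hab) hts ?_
    have h3 := Submodule.finrank_sup_add_finrank_inf_eq (Submodule.span K (Set.range e)) W'
    rw [h2, finrank_bot, (frm_mem hfr).2, hW'.2] at h3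
    omega
  obtain ⟨c, hc⟩ := exists_cus_sq K rfl (l - 1) (by omega) (fun _ => by omega) (fun _ => by omega) (fun _ => by omega)
  obtain ⟨χ, hχ, hχ1, hχz⟩ := exists_hc (cmp_of_frm hfr rfl) (F := CForm.minusF K l a b hab) hc (frm_mem hfr) hψ hW
  obtain ⟨x, hx⟩ := dn_of_iso (CForm.minusF K l a b hab) p (minus_hB K l a b hab) hχ
    (d := dg (CForm.minusF K l a b hab) (l - 1) * d) (by rw [hχ1, hψ1]; push_cast; ring) (fun z hz z' hz' => by
      obtain ⟨s, hs, hs'⟩ := scal_of (cen_minus K (by omega) a b hab z hz)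
      refine hχz z' s (fun v => (hz' v).trans (hs' v)) fun z'' hz'' => ?_
      rw [hc.scal s hs, hψz z'' s hz'']) hi hi'
  exact ⟨d, x, hx, hrd⟩

end lift

/-! ### the row -/

section minus

/-- the value of `D_3`, `l = 4` -/
theorem D3_minus_four (K : Type u) [Field K] [Finite K] (p : ℕ) [Fact p.Prime] [CharP K p] {a b : K}
    (hab : ∀ z₁ z₂ : K, z₁ ^ 2 + a * z₁ * z₂ + b * z₂ ^ 2 = 0 → z₁ = 0 ∧ z₂ = 0) :
    pp p (dg (CForm.minusF K (4 * 1) a b hab) (4 * 1 - 1)) =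
      (Nat.card K ^ 5 + 1) * (Nat.card K ^ 2 - 1) * (Nat.card K ^ 3 + 1) * (Nat.card K ^ 4 + 1) *
        (Nat.card K ^ 2 - 1) * (Nat.card K ^ 2 + 1) := by
  have hq : 2 ≤ Nat.card K := Finite.one_lt_card
  have h1 := D_minus K p hab (show 0 < 4 * 1 - 1 by norm_num) (show 4 * 1 - 1 + 1 = 4 * 1 by norm_num)
  rw [show 4 * 1 - 1 = 3 by norm_num, show 4 * 1 = 4 by norm_num] at h1 ⊢
  rw [AP_succ (by norm_num), AP_two (by norm_num)] at h1
  have e1 : Nat.card K ^ (2 * (1 + 1)) - 1 = (Nat.card K ^ 2 + 1) * (Nat.card K ^ 2 - 1) := sq_sub _ 2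
  have e2 : Nat.card K ^ (2 * (1 + 1 + 1)) - 1 = (Nat.card K ^ 3 + 1) * (Nat.card K ^ 3 - 1) := sq_sub _ 3
  have e3 : Nat.card K ^ (2 * (1 + 1 + 2)) - 1 = (Nat.card K ^ 4 + 1) * (Nat.card K ^ 4 - 1) := sq_sub _ 4
  have e4 : Nat.card K ^ 4 - 1 = (Nat.card K ^ 2 + 1) * (Nat.card K ^ 2 - 1) := sq_sub _ 2
  rw [e1, e2, e3, e4] at h1
  have h3 : 0 < Nat.card K ^ 3 - 1 := by
    have := Nat.one_lt_pow three_ne_zero hq
    omega
  apply Nat.eq_of_mul_eq_mul_right h3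
  apply Nat.eq_of_mul_eq_mul_right (show 0 < Nat.card K ^ (1 + 1) + 1 from Nat.succ_pos _)
  rw [h1]
  ring

theorem four_dvd_of {r q l : ℕ} (hr : r.Prime) (hr2 : r ≠ 2) (h : r ∣ q ^ l - 1) (h1 : r ∣ q ^ 2 + 1) : ∃ j, l = 4 * j := by
  have hq : 1 ≤ q := by
    rcases Nat.eq_zero_or_pos q with rfl | h2
    · simp at h1
      exact absurd h1 hr.one_lt.ne'
    · exact h2
  have : Fact r.Prime := ⟨hr⟩
  have h2 : (2 : ZMod r) ≠ 0 := by
    intro h3
    have h4 : ((2 : ℕ) : ZMod r) = 0 := by exact_mod_cast h3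
    rw [ZMod.natCast_eq_zero_iff] at h4
    exact hr2 ((Nat.prime_dvd_prime_iff_eq hr Nat.prime_two).1 h4)
  have h3 : (q : ZMod r) ^ l = 1 := by
    have h4 : ((q ^ l - 1 : ℕ) : ZMod r) = 0 := (ZMod.natCast_eq_zero_iff _ _).2 h
    rw [Nat.cast_sub (Nat.one_le_pow _ _ hq)] at h4
    push_cast at h4
    exact sub_eq_zero.1 h4
  have h5 : (q : ZMod r) ^ 2 = -1 := by
    have h4 : ((q ^ 2 + 1 : ℕ) : ZMod r) = 0 := (ZMod.natCast_eq_zero_iff _ _).2 h1
    push_cast at h4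
    exact eq_neg_of_add_eq_zero_left h4
  have h6 : orderOf (q : ZMod r) = 2 ^ (1 + 1) := by
    refine orderOf_eq_prime_pow ?_ ?_
    · rw [pow_one, h5]
      intro h7
      apply h2
      have : (1 : ZMod r) + 1 = 0 := by
        nth_rewrite 1 [← h7]
        ring
      rw [← this]; norm_num
    · rw [show (2 : ℕ) ^ (1 + 1) = 2 * 2 by norm_num, pow_mul, h5]
      norm_num
  have h7 := orderOf_dvd_of_pow_eq_one h3
  rw [h6] at h7
  obtain ⟨j, hj⟩ := h7
  exact ⟨j, by rw [hj]; norm_num⟩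

theorem sq_minus (K : Type) [Field K] [Finite K] (p : ℕ) [Fact p.Prime] [CharP K p] {a b : K}
    (hab : ∀ z₁ z₂ : K, z₁ ^ 2 + a * z₁ * z₂ + b * z₂ ^ 2 = 0 → z₁ = 0 ∧ z₂ = 0) {l : ℕ}
    (hl : 3 ≤ l) {r : ℕ} (hr : r.Prime) (hrp : r ≠ p) (hr2 : r ≠ 2)
    (hd : r ^ 2 ∣ Nat.card (POmega K (quadFormMinus l K a b))) : IM (r ^ 2) (POmega K (quadFormMinus l K a b)) := by
  have hp : p.Prime := Fact.out
  have hq : 2 ≤ Nat.card K := Finite.one_lt_card
  have hN : r ^ 2 ∣ (Nat.card K ^ (l + 1) + 1) * AP (Nat.card K) (Finset.range l) := by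
    have h1 := pow_dvd_pp hp hr hrp (dvd_iso (CForm.minusF K l a b hab) (minus_hB K l a b hab) hd)
    rw [pp_card_minus K p hab] at h1
    exact sq_of_mul' hr h1 (not_dvd_pp_two hr hr2)
  have hAP : AP (Nat.card K) (Finset.range l) = AP (Nat.card K) (Finset.range (l - 1)) *
      ((Nat.card K ^ l + 1) * (Nat.card K ^ l - 1)) := by
    obtain ⟨n, rfl⟩ : ∃ n, l = n + 1 := ⟨l - 1, by omega⟩
    unfold AP
    rw [Finset.prod_range_succ, Nat.add_sub_cancel, sq_sub _ (n + 1)]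
  have htop := D_minus K p hab (show 0 < l by omega) (Nat.add_zero l)
  rw [← Finset.range_eq_Ico, zero_add, pow_one] at htop
  have hdn := minus_dn K p hab hl (show 2 ≤ l by omega) le_rfl (Or.inl hl)
  have hlpos : 0 < Nat.card K ^ l - 1 := by
    have := Nat.one_lt_pow (show l ≠ 0 by omega) hq
    omega
  have htop' : pp p (dg (CForm.minusF K l a b hab) l) * (Nat.card K + 1) =
      (Nat.card K ^ (l + 1) + 1) * (Nat.card K ^ l + 1) * AP (Nat.card K) (Finset.range (l - 1)) := by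
    apply Nat.eq_of_mul_eq_mul_right hlpos
    calc pp p (dg (CForm.minusF K l a b hab) l) * (Nat.card K + 1) * (Nat.card K ^ l - 1)
        = pp p (dg (CForm.minusF K l a b hab) l) * (Nat.card K ^ l - 1) * (Nat.card K + 1) := by ring
      _ = _ := by rw [htop, hAP]; ring
  -- `r ∣ q² - 1`
  by_cases h4 : r ∣ Nat.card K ^ 2 - 1
  · refine im_of_pp hdn hr hr2 ?_
    obtain ⟨y, hy⟩ : ∃ y, (Nat.card K ^ (l + 1) + 1) * (Nat.card K ^ l + 1) = (Nat.card K + 1) * y := by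
      rcases Nat.even_or_odd l with h | h
      · exact Dvd.dvd.mul_right (add_dvd_odd _ h.add_one) _
      · exact Dvd.dvd.mul_left (add_dvd_odd _ h) _
    have h5 : pp p (dg (CForm.minusF K l a b hab) l) = y * AP (Nat.card K) (Finset.range (l - 1)) := by
      apply Nat.eq_of_mul_eq_mul_right (show 0 < Nat.card K + 1 from Nat.succ_pos _)
      rw [htop', hy]
      ring
    rw [h5]
    refine Dvd.dvd.mul_left (sq_dvd_AP ?_ h4) _
    intro i hi
    simp only [Finset.mem_insert, Finset.mem_singleton] at hi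
    rw [Finset.mem_range]; omega
  have h5 : ¬ r ∣ Nat.card K - 1 := fun h => h4 (h.trans (sub_one_dvd _ 2))
  have h5' : ¬ r ∣ Nat.card K + 1 := fun h => h4 (h.trans (by
    have e1 : Nat.card K ^ 2 - 1 = (Nat.card K + 1) * (Nat.card K - 1) := by
      have := Nat.sq_sub_sq (Nat.card K) 1
      rwa [one_pow] at this
    rw [e1]; exact Dvd.intro _ rfl))
  by_cases h3 : r ∣ Nat.card K ^ l - 1
  · by_cases h6 : r ∣ Nat.card K ^ 2 + 1
    · obtain ⟨j, rfl⟩ := four_dvd_of hr hr2 h3 h6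
      rcases Nat.lt_or_ge j 2 with hj | hj
      · obtain rfl : j = 1 := by omega
        obtain ⟨d, x, hx, hrd⟩ := levi_dn hab p (l := 4 * 1) (by norm_num) hr hr2 h6
        refine im_of_dn ⟨x, hx⟩ hr hr2 ?_
        rw [sq]
        refine Nat.mul_dvd_mul (Dvd.dvd.trans ?_ (pp_dvd (p := p) _)) hrd
        rw [D3_minus_four K p hab]
        exact Dvd.dvd.mul_left h6 _
      · refine im_of_pp hdn hr hr2 ?_
        refine sq_of_mul hr ?_ h5'
        rw [htop']
        refine Dvd.dvd.mul_left ?_ _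
        have h7 : ∏ i ∈ ({1, 3} : Finset ℕ), (Nat.card K ^ (2 * (i + 1)) - 1) ∣
            AP (Nat.card K) (Finset.range (4 * j - 1)) := by
          refine Finset.prod_dvd_prod_of_subset _ _ _ ?_
          intro i hi
          simp only [Finset.mem_insert, Finset.mem_singleton] at hi
          rw [Finset.mem_range]; omega
        refine Dvd.dvd.trans ?_ h7
        rw [Finset.prod_insert (by simp), Finset.prod_singleton, sq]
        have e4 : Nat.card K ^ 2 + 1 ∣ Nat.card K ^ 4 - 1 := by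
          have e5 : Nat.card K ^ (2 * 2) - 1 = (Nat.card K ^ 2 + 1) * (Nat.card K ^ 2 - 1) := sq_sub _ 2
          rw [show 4 = 2 * 2 by norm_num, e5]
          exact Dvd.intro _ rfl
        have e8 : Nat.card K ^ 4 - 1 ∣ Nat.card K ^ 8 - 1 := pow_sub_one_dvd _ (by norm_num)
        exact Nat.mul_dvd_mul (h6.trans e4) ((h6.trans e4).trans e8)
    · have hdn' : ∃ e, Dn (POmega K (quadFormMinus l K a b)) p (Nat.card K) (dg (CForm.minusF K l a b hab) (l - 1)) e := by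
        refine minus_dn K p hab hl (by omega) (Nat.sub_le _ _) ?_
        rcases Nat.lt_or_ge l 4 with hl4 | hl4
        · obtain rfl : l = 3 := by omega
          rcases Nat.lt_or_ge (Nat.card K) 4 with hq4 | hq4
          · rcases Nat.lt_or_ge (Nat.card K) 3 with hq3 | hq3
            · exfalso
              have hq2 : Nat.card K = 2 := by omega
              rw [hq2] at h3 hN
              have h7 : r = 7 := (Nat.prime_dvd_prime_iff_eq hr (by norm_num)).1 (by norm_num at h3; exact h3)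
              rw [h7] at hN
              revert hN
              unfold AP
              decide
            · exact Or.inr (Or.inr ⟨by omega, by decide⟩)
          · exact Or.inr (Or.inl hq4)
        · exact Or.inl (by omega)
      refine im_of_pp hdn' hr hr2 ?_
      have h7 := D_minus K p hab (show 0 < l - 1 by omega) (show l - 1 + 1 = l by omega)
      refine sq_of_mul hr (sq_of_mul hr ?_ h6) (not_dvd_pred (show 1 ≤ l by omega) h3 h5)
      rw [show Nat.card K ^ 2 + 1 = Nat.card K ^ (1 + 1) + 1 from rfl, h7]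
      have h8 := AP_succ (q := Nat.card K) (show 0 < l by omega)
      rw [← Finset.range_eq_Ico, zero_add, mul_one] at h8
      rw [h8, ← mul_assoc, mul_comm (_ + 1) (Nat.card K ^ 2 - 1), mul_assoc] at hN
      exact sq_of_mul' hr hN h4
  · refine im_of_pp hdn hr hr2 ?_
    refine sq_of_mul hr (sq_of_mul hr ?_ h5') h3
    rwa [htop]

/-- **`PΩ⁻_(2l+2)(q)`** -/
theorem sq_ominus {S : Type u} [Group S] [Finite S] (h : IsPOmegaMinus S) (hs : IsSimpleGroup S) {p : ℕ}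
    [hp : Fact p.Prime] (hp2 : p ≠ 2) (hd : p ^ 2 ∣ Nat.card S) : Cfsg.Agent.H33.IM (p ^ 2) S := by
  obtain ⟨F, _, _, l, a, b, hl, hab, ⟨e⟩⟩ := h
  obtain ⟨s, hs'⟩ := CharP.exists F
  have hpr : s.Prime := (CharP.char_is_prime_or_zero F s).resolve_right (CharP.char_ne_zero_of_finite F s)
  have : Fact s.Prime := ⟨hpr⟩
  by_cases hrp : p = s
  · subst hrp
    have hL : IsLieTypeChar p S := by
      refine Or.inr (Or.inr (Or.inr (Or.inr (Or.inr (Or.inl ⟨F, inferInstance, inferInstance, inferInstance, l, a, b, hl, hab,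
        ⟨e⟩⟩)))))
    exact im_char_pow hL hd
  rw [IM.congr e]
  rw [Nat.card_congr e.toEquiv] at hd
  exact sq_minus F s hab (by omega) hp.1 hrp hp2 hd

end minus

end Cfsg.Agent.H674.Sq
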